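import Groth.Agent.OmegaLib.Smooth
import Groth.Agent.W7Hull.Sub
import Mathlib.AlgebraicGeometry.Morphisms.Smooth

/-!
# The conormal map is injective at smooth points
-/

set_option autoImplicit false
set_option backward.isDefEq.respectTransparency false
set_option backward.isDefEq.respectTransparency.types false
set_option linter.style.haveILetI false

universe u

open CategoryTheory CategoryTheory.Limits AlgebraicGeometry TopologicalSpace Opposite TensorProduct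
open Groth.Agent.QC Groth.Agent.ModDesc Groth.Agent.OmegaLib

noncomputable section

namespace Groth.Agent.NormalH1

variable {X' X Y : Scheme.{u}} {j : X' ⟶ X} {f : X ⟶ Y} {Ω : X.Modules} {d : OmegaSh.Der f Ω}
  {φ : Omega.conormal j ⟶ (Scheme.Modules.pullback j).obj Ω}

set_option maxHeartbeats 1600000 in
/-- Injectivity over a chart inside the smooth locus. -/
theorem injective_app_chart [QuasiCompact j] [LocallyOfFinitePresentation (j ≫ f)]
    (hd : OmegaSh.IsUniversal d) (hφ : OmegaSh.IsConormalDiff j d φ) {W : Y.Opens} {V : X.Opens}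
    (hW : IsAffineOpen W) (hV : Conormal.IsChart j V) (e : V ≤ f ⁻¹ᵁ W)
    (hsm : j ⁻¹ᵁ V ≤ (j ≫ f).smoothLocus) : Function.Injective (φ.app (j ⁻¹ᵁ V)).hom := by
  have e' : j ⁻¹ᵁ V ≤ (j ≫ f) ⁻¹ᵁ W := j.preimage_mono e
  letI : Algebra Γ(Y, W) Γ(X, V) := (f.appLE W V e).hom.toAlgebra
  letI : Algebra Γ(X, V) Γ(X', j ⁻¹ᵁ V) := (j.appLE V (j ⁻¹ᵁ V) le_rfl).hom.toAlgebra
  letI : Algebra Γ(Y, W) Γ(X', j ⁻¹ᵁ V) := ((j ≫ f).appLE W (j ⁻¹ᵁ V) e').hom.toAlgebra
  haveI : IsScalarTower Γ(Y, W) Γ(X, V) Γ(X', j ⁻¹ᵁ V) := IsScalarTower.of_algebraMap_eq fun r => by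
    show (j ≫ f).appLE W (j ⁻¹ᵁ V) e' r = j.appLE V (j ⁻¹ᵁ V) le_rfl (f.appLE W V e r)
    rw [← ConcreteCategory.comp_apply, Scheme.Hom.appLE_comp_appLE]
  haveI : Algebra.FinitePresentation Γ(Y, W) Γ(X', j ⁻¹ᵁ V) :=
    (j ≫ f).finitePresentation_appLE hW hV.preimage e'
  haveI : Algebra.FormallySmooth Γ(Y, W) Γ(X', j ⁻¹ᵁ V) := by
    refine Algebra.smoothLocus_eq_univ_iff.1 (Set.eq_univ_of_forall fun q => ?_)
    have hq : hV.preimage.fromSpec q ∈ j ⁻¹ᵁ V := hV.preimage.range_fromSpec.le ⟨q, rfl⟩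
    have hp : hV.preimage.primeIdealOf ⟨_, hq⟩ = q :=
      hV.preimage.fromSpec.isOpenEmbedding.injective (hV.preimage.fromSpec_primeIdealOf ⟨_, hq⟩)
    rw [← hp]
    exact (formallySmooth_stalkMap_iff W hW _ hV.preimage e' hq).1 (hsm hq)
  have halg : algebraMap Γ(X, V) Γ(X', j ⁻¹ᵁ V) = (j.app V).hom := by
    rw [RingHom.algebraMap_toAlgebra, Scheme.Hom.app_eq_appLE]
  have hsurj : Function.Surjective (algebraMap Γ(X, V) Γ(X', j ⁻¹ᵁ V)) := by rw [halg]; exact hV.surjective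
  haveI : Coh.IsQCoh Ω := isQCoh_of_isUniversal hd
  obtain ⟨Φ, hΦ⟩ := exists_bijective_liftBaseChange j Ω hV.affine hV.preimage le_rfl
  obtain ⟨L, hL⟩ := exists_linearEquiv hd e hV.affine hW
  refine (injective_iff_map_eq_zero (φ.app (j ⁻¹ᵁ V)).hom).mpr fun m hm => ?_
  obtain ⟨s, rfl⟩ := Conormal.conormalSect_surjective j hV m
  have h1 : Φ (1 ⊗ₜ d.app V (OmegaSh.idealSect j.ker V s)) = 0 := by
    rw [hΦ, pullSectLE_apply, res_self]
    exact (hφ V s).symm.trans hm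
  have h2 : (1 : Γ(X', j ⁻¹ᵁ V)) ⊗ₜ[Γ(X, V)] KaehlerDifferential.D Γ(Y, W) Γ(X, V)
      (OmegaSh.idealSect j.ker V s) = 0 := by
    rw [← hL]
    have h3 := (LinearEquiv.map_eq_zero_iff Φ).mp h1
    have h4 := congrArg (LinearMap.lTensor Γ(X', j ⁻¹ᵁ V) L.toLinearMap) h3
    rwa [map_zero, LinearMap.lTensor_tmul] at h4
  have hk : OmegaSh.idealSect j.ker V s ∈ RingHom.ker (algebraMap Γ(X, V) Γ(X', j ⁻¹ᵁ V)) := by
    rw [halg]; exact Conormal.app_idealSect j V s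
  have hsq := mem_sq_of_formallySmooth_quotient hsurj _ hk h2
  rw [halg] at hsq
  exact (Conormal.conormalSect_eq_zero_iff j hV s).mpr hsq

/-- A germ vanishes iff the section vanishes near the point. -/
theorem exists_res_eq_zero {M : X.Modules} {U : X.Opens} {x : X} (hx : x ∈ U) (s : Γ(M, U))
    (h : M.presheaf.germ U x hx s = 0) :
    ∃ (W : X.Opens) (hWU : W ≤ U), x ∈ W ∧ res M hWU s = 0 := by
  obtain ⟨W, hxW, i₁, i₂, e⟩ := TopCat.Presheaf.germ_eq M.presheaf x hx hx s 0 (by rw [h, map_zero])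
  exact ⟨W, i₁.le, hxW, e.trans (map_zero _)⟩

theorem germ_eq_zero {M : X.Modules} {U W : X.Opens} (hWU : W ≤ U) {x : X} (hxW : x ∈ W) (s : Γ(M, U))
    (h : res M hWU s = 0) : M.presheaf.germ U x (hWU hxW) s = 0 := by
  rw [← TopCat.Presheaf.germ_res_apply M.presheaf (homOfLE hWU) x hxW s]
  exact (congrArg _ h).trans (map_zero _)

/-- The conormal map is injective on stalks at smooth points. -/
theorem injective_st_conormalDiff [IsImmersion j] [QuasiCompact j] [LocallyOfFinitePresentation (j ≫ f)]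
    (hd : OmegaSh.IsUniversal d) (hφ : OmegaSh.IsConormalDiff j d φ) {x : X'}
    (hx : x ∈ (j ≫ f).smoothLocus) : Function.Injective (W7Hull.st φ x) := by
  refine (injective_iff_map_eq_zero (W7Hull.st φ x)).mpr fun z hz => ?_
  obtain ⟨O, hxO, s, rfl⟩ := TopCat.Presheaf.exists_germ_eq (Omega.conormal j).presheaf z
  rw [W7Hull.st_germ] at hz
  obtain ⟨O₁, hle, hxO₁, h0⟩ := exists_res_eq_zero hxO _ hz
  obtain ⟨W, hW, hxW⟩ := exists_affine_mem (f (j x))
  obtain ⟨V, hV, hxV, hVW, hVO⟩ :=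
    Conormal.exists_chart_le j x (O₁ ⊓ (j ≫ f).smoothLocus) ⟨hxO₁, hx⟩ (f ⁻¹ᵁ W) hxW
  refine germ_eq_zero (fun y hy => hle (hVO hy).1) hxV s ?_
  apply injective_app_chart hd hφ hW hV hVW (fun y hy => (hVO hy).2)
  rw [map_zero]
  have h1 : φ.app _ (res _ (fun y hy => hle (hVO hy).1 : j ⁻¹ᵁ V ≤ O) s) =
      res _ (fun y hy => hle (hVO hy).1 : j ⁻¹ᵁ V ≤ O) (φ.app O s) := (app_res φ _ s).symm
  refine h1.trans ?_
  have hh : j ⁻¹ᵁ V ≤ O₁ := fun y hy => (hVO hy).1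
  refine (res_res _ _ _ _).symm.trans ((congrArg (res _ hh) h0).trans (map_zero _))

end Groth.Agent.NormalH1
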