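import Groth.Agent.W7Hull.HomAdj
import Groth.Agent.W7Hull.Sub
import Groth.Agent.RefStalk.Refl
import Groth.Agent.CompInt.Conormal
import Groth.Agent.TMul.Power
import Groth.Agent.KFlat.PullTensor
import Groth.Agent.DerPerf.Local
import Groth.Agent.CycPB.FiltPull
import Groth.Agent.NormalH1.Inj

/-!
# Surjectivity of the dual of an injection into a free module at field points
-/

set_option autoImplicit false
set_option backward.isDefEq.respectTransparency false
set_option backward.isDefEq.respectTransparency.types false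
set_option linter.style.haveILetI false

universe u

open CategoryTheory CategoryTheory.Limits AlgebraicGeometry TopologicalSpace Opposite
open Groth.Agent.QC (res res_res app_res)
open Groth.Agent.WeakAssLib (mgerm mgerm_smul mgerm_res)

noncomputable section

namespace Groth.Agent.NormalH1

variable {X : Scheme.{u}}

/-- projection from a free module -/
def proj (m : ℕ) (j : Fin m) : FlatMod.freeMod X m ⟶ Coh.structureModule X :=
  Sigma.desc fun i => if i = j then 𝟙 _ else 0

theorem sum_proj_ι (m : ℕ) :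
    ∑ j, proj (X := X) m j ≫ Sigma.ι (fun _ : Fin m => Coh.structureModule X) j = 𝟙 _ := by
  refine Sigma.hom_ext _ _ fun i => ?_
  rw [Preadditive.comp_sum, Category.comp_id, Finset.sum_eq_single i]
  · rw [proj, Sigma.ι_desc_assoc, if_pos rfl, Category.id_comp]
  · intro j _ hj
    rw [proj, Sigma.ι_desc_assoc, if_neg (Ne.symm hj), zero_comp]
  · intro h; exact absurd (Finset.mem_univ i) h

theorem st_add {M N : X.Modules} (φ ψ : M ⟶ N) (x : X) (z : M.presheaf.stalk x) :
    W7Hull.st (φ + ψ) x z = W7Hull.st φ x z + W7Hull.st ψ x z := by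
  obtain ⟨U, hx, s, rfl⟩ := TopCat.Presheaf.exists_germ_eq M.presheaf z
  rw [W7Hull.st_germ, W7Hull.st_germ, W7Hull.st_germ, ← map_add]
  rfl

theorem st_sum {ι : Type*} (s : Finset ι) {M N : X.Modules} (φ : ι → (M ⟶ N)) (x : X) (z : M.presheaf.stalk x) :
    W7Hull.st (∑ i ∈ s, φ i) x z = ∑ i ∈ s, W7Hull.st (φ i) x z := by
  classical
  induction s using Finset.induction_on with
  | empty => rw [Finset.sum_empty, Finset.sum_empty, W7Hull.st_zero]
  | insert a s ha ih => rw [Finset.sum_insert ha, Finset.sum_insert ha, st_add, ih]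

/-- A pairing composed with a map. -/
theorem pairAt_comp {F M G H : X.Modules} (φ : CohB1.tensorMod F M ⟶ G) (γ : G ⟶ H) {U : X.Opens} (m : Γ(M, U))
    {x : X} (hx : x ∈ U) (v : F.presheaf.stalk x) :
    W7Hull.pairAt (φ ≫ γ) m hx v = W7Hull.st γ x (W7Hull.pairAt φ m hx v) := by
  obtain ⟨V, hV, hxV, a, rfl⟩ := W7Hull.exists_rep hx v
  rw [W7Hull.pairAt_germ _ m hx hV hxV, W7Hull.pairAt_germ _ m hx hV hxV]
  exact (W7Hull.st_germ γ hxV _).symm

/-- Pairing with a generator is injective. -/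
theorem pairAt_id_injective {F M : X.Modules} {U : X.Opens} {e : Γ(M, U)} (he : TMul.IsGen e) {x : X} (hx : x ∈ U) :
    Function.Injective (W7Hull.pairAt (𝟙 (CohB1.tensorMod F M)) e hx) := by
  refine (injective_iff_map_eq_zero _).mpr fun v hv => ?_
  obtain ⟨V, hV, hxV, a, rfl⟩ := W7Hull.exists_rep hx v
  rw [W7Hull.pairAt_germ _ e hx hV hxV] at hv
  obtain ⟨W, hWV, hxW, h0⟩ := exists_res_eq_zero hxV _ hv
  refine germ_eq_zero hWV hxW a ((TMul.tm_bijective he W (hWV.trans hV)).1 ?_)
  have h1 : TMul.tm (res F hWV a) (res M (hWV.trans hV) e) = 0 := by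
    refine Eq.trans ?_ h0
    change _ = res _ hWV (TMul.tm a (res M hV e))
    rw [TMul.res_tm, res_res]
  have h2 : TMul.tm (0 : Γ(F, W)) (res M (hWV.trans hV) e) = 0 := by
    rw [show (0 : Γ(F, W)) = (0 : Γ(X, W)) • (0 : Γ(F, W)) from (smul_zero _).symm, TMul.smul_tm, zero_smul]
  exact h1.trans h2.symm

/-- The map `T^m → Hom(C, O)` given by `χ : C ⊗ T → O^m`. -/
def dualMap {C T : X.Modules} {m : ℕ} (χ : CohB1.tensorMod C T ⟶ FlatMod.freeMod X m) :
    (∐ fun _ : Fin m => T) ⟶ RefHull.homSh C (Coh.structureModule X) :=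
  Sigma.desc fun j => W7Hull.cur (χ ≫ proj m j)

set_option maxHeartbeats 1600000 in
/-- At a point with field stalk where `χ` is injective, the dual map is surjective. -/
theorem surjective_st_dualMap {C T : X.Modules} {m : ℕ} (hT : PicF.IsInvertible T) (hC : CohB1.IsFP C)
    (χ : CohB1.tensorMod C T ⟶ FlatMod.freeMod X m) {x : X} (hinj : Function.Injective (W7Hull.st χ x))
    (hF : IsField (X.presheaf.stalk x)) : Function.Surjective (W7Hull.st (dualMap χ) x) := by
  intro z
  obtain ⟨U, e, hxU, he⟩ := TMul.exists_isGen hT x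
  let lam := RefHull.evalStalk C (Coh.structureModule X) x z
  let μ : C.presheaf.stalk x →ₗ[X.presheaf.stalk x] (FlatMod.freeMod X m).presheaf.stalk x :=
    W7Hull.pairAt χ e hxU
  have hμ : Function.Injective μ := fun v w h => by
    apply pairAt_id_injective he hxU
    apply hinj
    rw [← pairAt_comp, ← pairAt_comp, Category.id_comp]
    exact h
  obtain ⟨g, hg⟩ : ∃ g, g ∘ₗ μ = LinearMap.id := by
    letI := hF.toField
    exact μ.exists_leftInverse_of_injective (LinearMap.ker_eq_bot.mpr hμ)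
  let E := CompInt.sE (X := X) x
  let ι := Sigma.ι (fun _ : Fin m => Coh.structureModule X)
  let c : Fin m → X.presheaf.stalk x := fun j => E.symm (lam (g (W7Hull.st (ι j) x (E 1))))
  have hlam : ∀ v, lam v = ∑ j, c j • W7Hull.st (proj m j) x (μ v) := fun v => by
    conv_lhs => rw [show v = g (W7Hull.st (∑ j, proj m j ≫ ι j) x (μ v)) by
      rw [sum_proj_ι, W7Hull.st_id]; exact (LinearMap.congr_fun hg v).symm]
    rw [st_sum, map_sum, map_sum]
    refine Finset.sum_congr rfl fun j _ => ?_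
    rw [W7Hull.st_comp]
    obtain ⟨a, ha⟩ : ∃ a, W7Hull.st (proj m j) x (μ v) = a • E 1 := ⟨E.symm (W7Hull.st (proj m j) x (μ v)), by
      rw [← map_smul, smul_eq_mul, mul_one, LinearEquiv.apply_symm_apply]⟩
    rw [ha, map_smul, map_smul, map_smul]
    have hc : lam (g (W7Hull.st (ι j) x (E 1))) = c j • E 1 := by
      rw [← map_smul, smul_eq_mul, mul_one]; exact (E.apply_symm_apply _).symm
    rw [hc, smul_comm]
  refine ⟨∑ j, c j • W7Hull.st (Sigma.ι (fun _ : Fin m => T) j) x (T.presheaf.germ U x hxU e), ?_⟩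
  refine (RefStalk.evalStalk_bijective hC x).1 (LinearMap.ext fun v => ?_)
  change _ = lam v
  rw [hlam, map_sum, map_sum, LinearMap.sum_apply]
  refine Finset.sum_congr rfl fun j _ => ?_
  rw [map_smul, map_smul, LinearMap.smul_apply]
  congr 1
  rw [← W7Hull.st_comp, dualMap, Sigma.ι_desc, W7Hull.st_germ, RefHull.evalStalk_germ]
  exact pairAt_comp χ _ e hxU v

/-- tensoring an injection with an invertible module -/
theorem injective_st_tensor {C P T : X.Modules} (hT : PicF.IsInvertible T) (φ : C ⟶ P) {x : X}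
    (h : Function.Injective (W7Hull.st φ x)) :
    Function.Injective (W7Hull.st
      (TMul.commHom C T ≫ ((DCoh.tensorBi (X := X)).obj T).map φ ≫ TMul.commHom T P) x) := by
  refine (injective_iff_map_eq_zero _).mpr fun z hz => ?_
  obtain ⟨V, hxV, s, rfl⟩ := TopCat.Presheaf.exists_germ_eq (CohB1.tensorMod C T).presheaf z
  obtain ⟨U, e, hxU, he⟩ := TMul.exists_isGen hT x
  have hxW : x ∈ V ⊓ U := ⟨hxV, hxU⟩
  obtain ⟨a, ha⟩ := (TMul.tm_bijective (M := C) he (V ⊓ U) inf_le_right).2 (res _ inf_le_left s)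
  have hgerm : (CohB1.tensorMod C T).presheaf.germ V x hxV s =
      (CohB1.tensorMod C T).presheaf.germ (V ⊓ U) x hxW (TMul.tm a (res T inf_le_right e)) := by
    rw [← mgerm_res (CohB1.tensorMod C T) (inf_le_left : V ⊓ U ≤ V) hxW s]
    exact congrArg _ ha.symm
  rw [hgerm, W7Hull.st_germ] at hz
  rw [hgerm]
  have hz' : (CohB1.tensorMod P T).presheaf.germ (V ⊓ U) x hxW
      (TMul.tm (φ.app (V ⊓ U) a) (res T inf_le_right e)) = 0 := by
    refine Eq.trans (congrArg _ ?_) hz
    change _ = (TMul.commHom T P).app _ ((((DCoh.tensorBi (X := X)).obj T).map φ).app _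
      ((TMul.commHom C T).app _ (TMul.tm a (res T inf_le_right e))))
    rw [TMul.commHom_tm, W7Hull.map_tm, TMul.commHom_tm]
  have hφa : P.presheaf.germ (V ⊓ U) x hxW (φ.app (V ⊓ U) a) = 0 := by
    apply pairAt_id_injective (F := P) he hxU
    rw [map_zero]
    exact (W7Hull.pairAt_germ (𝟙 _) e hxU inf_le_right hxW (φ.app (V ⊓ U) a)).trans hz'
  have ha0 : C.presheaf.germ (V ⊓ U) x hxW a = 0 := h (((W7Hull.st_germ φ hxW a).trans hφa).trans (map_zero _).symm)
  have h3 := W7Hull.pairAt_germ (𝟙 (CohB1.tensorMod C T)) e hxU inf_le_right hxW a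
  exact h3.symm.trans ((congrArg _ ha0).trans (map_zero _))

variable {Y S : Scheme.{u}}

/-- The composite `C ⊗ i*L → i*(Ω ⊗ L) → O^m`. -/
def chi (i : X ⟶ Y) {Ω L : Y.Modules} {m : ℕ} (φ : Omega.conormal i ⟶ (Scheme.Modules.pullback i).obj Ω)
    (κ : CohB1.tensorMod Ω L ⟶ FlatMod.freeMod Y m) :
    CohB1.tensorMod (Omega.conormal i) ((Scheme.Modules.pullback i).obj L) ⟶ FlatMod.freeMod X m :=
  (TMul.commHom _ _ ≫ ((DCoh.tensorBi (X := X)).obj ((Scheme.Modules.pullback i).obj L)).map φ ≫ TMul.commHom _ _) ≫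
    (KFlat.pullTensorIso i Ω L).hom ≫ (Scheme.Modules.pullback i).map κ ≫ (DerPerf.pullFreeIso i m).hom

theorem injective_st_chi [IsLocallyNoetherian Y] (i : X ⟶ Y) {Ω L : Y.Modules} {m : ℕ}
    (φ : Omega.conormal i ⟶ (Scheme.Modules.pullback i).obj Ω) (hL : PicF.IsInvertible L)
    (hLp : PicF.IsInvertible ((Scheme.Modules.pullback i).obj L))
    {q : FlatMod.freeMod Y m ⟶ L} [Epi q] (ε : CohB1.tensorMod Ω L ≅ kernel q) {x : X}
    (h : Function.Injective (W7Hull.st φ x)) :
    Function.Injective (W7Hull.st (chi i φ (ε.hom ≫ kernel.ι q)) x) := by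
  have hS : (ShortComplex.mk (kernel.ι q) q (kernel.condition q)).ShortExact :=
    { exact := ShortComplex.exact_of_f_is_kernel _ (kernelIsKernel q), mono_f := inferInstance, epi_g := ‹_› }
  haveI : Mono ((Scheme.Modules.pullback i).map (kernel.ι q)) :=
    (CycPB.shortExact_pullback_locFree i hS (CurveRR.isFinLocFreeOfRank_one hL)).mono_f
  intro v w e
  apply injective_st_tensor hLp φ h
  simp only [chi, Functor.map_comp, W7Hull.st_comp] at e ⊢
  exact W7Hull.st_injective (KFlat.pullTensorIso i Ω L).hom x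
    (W7Hull.st_injective ((Scheme.Modules.pullback i).map ε.hom) x
      (W7Hull.st_injective ((Scheme.Modules.pullback i).map (kernel.ι q)) x
        (W7Hull.st_injective (DerPerf.pullFreeIso i m).hom x e)))

end Groth.Agent.NormalH1
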